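import Cfsg.Agent.Spor.Th.HLow
import Cfsg.Agent.Spor.Th.Net
import Cfsg.Prelude.Def_Exceptional

set_option autoImplicit false
set_option Elab.async false
set_option maxRecDepth 100000

namespace Cfsg.Agent.Spor.ThC

open Cfsg.Agent.Comp.BN

namespace A4
noncomputable def net0 : Net := .nil

theorem ok0 : Net.ok 3 net0 = true :=
  by decide +kernel

noncomputable def net1 : Net := .nil

theorem ok1 : Net.ok 3 net1 = true :=
  by decide +kernel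

noncomputable def net2 : Net := .nil

theorem ok2 : Net.ok 3 net2 = true :=
  by decide +kernel

noncomputable def net3 : Net := .nil

theorem ok3 : Net.ok 3 net3 = true :=
  by decide +kernel

noncomputable def net4 : Net := .nil

theorem ok4 : Net.ok 3 net4 = true :=
  by decide +kernel

noncomputable def net5 : Net := .nil

theorem ok5 : Net.ok 3 net5 = true :=
  by decide +kernel

noncomputable def net6 : Net := .nil

theorem ok6 : Net.ok 3 net6 = true :=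
  by decide +kernel

noncomputable def m7_0 : ℕ := nat_lit 0x2

noncomputable def m7_1 : ℕ := nat_lit 0x1

noncomputable def net7 : Net := (.cons 1 m7_0 (.cons 1 m7_1 .nil))

theorem ok7 : Net.ok 3 net7 = true :=
  by decide +kernel

noncomputable def net8 : Net := (.cons 1 m7_1 (.cons 1 m7_0 .nil))

theorem ok8 : Net.ok 3 net8 = true :=
  by decide +kernel

noncomputable def nets : List Net := [net0, net1, net2, net3, net4, net5, net6, net7, net8]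

noncomputable def act : Act := netAct' nets
noncomputable def π : ℕ → Equiv.Perm ℕ := netPerm nets

theorem spec : act.Spec 3 π :=
  spec_fast (netAct_spec (AllP.forall (p := fun t => Net.ok 3 t = true) ⟨ok0, ok1, ok2, ok3, ok4, ok5, ok6, ok7, ok8, trivial⟩))

theorem out : ∀ k, 9 ≤ k → π k = 1 :=
  netPerm_out nets

theorem sat_inv_0 : invC Cfsg.Agent.Spor.ThC.A4.act Cfsg.Agent.Spor.ThC.PH.I 3 2 Cfsg.Agent.Spor.ThC.PH.inv.length [0, 1] = true :=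
  by decide +kernel

theorem sat_inv : ∀ k, Cfsg.Agent.Spor.ThC.A4.π (Cfsg.Agent.Spor.ThC.PH.I k) * Cfsg.Agent.Spor.ThC.A4.π k = 1 :=
  inv_of_checks Cfsg.Agent.Spor.ThC.A4.spec (K := 2) (by decide) Cfsg.Agent.Spor.ThC.A4.out [[0, 1]] (by decide) ⟨sat_inv_0, trivial⟩

theorem sat_rel_0_0 : relsC Cfsg.Agent.Spor.ThC.A4.act Cfsg.Agent.Spor.ThC.PH.I 3 2 [[0, 1, 0, 1, 0, 1], [0, 4, 0, 4], [1, 2, 1, 2, 1, 2], [1, 3, 1, 3], [1, 4, 1, 4], [0, 3, 2, 3, 2, 3, 2, 3, 2], [2, 4, 2, 4], [3, 4, 3, 4, 3, 4], [1, 2, 3, 4, 1, 2, 3, 4, 1, 2, 3, 4, 1, 2, 3, 4, 1, 2, 3, 4, 1, 2, 3, 4, 1, 2, 3, 4, 1, 2, 3, 4], [5, 5, 5, 5, 5, 5, 5], [6, 0, 5, 0], [6, 1, 5, 1], [6, 2, 5, 2], [5, 3, 5, 3], [4, 6, 4, 6, 6, 4, 5, 5, 5], [7, 7, 7], [8, 0, 7, 0], [8, 1, 7, 1], [8, 2, 7, 2], [8, 3, 7, 3], [8, 4, 7, 4], [8, 5, 7, 6, 6]] [0, 1] = true :=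
  by decide +kernel

theorem sat_rel_0 : ∀ r ∈ ([[0, 1, 0, 1, 0, 1], [0, 4, 0, 4], [1, 2, 1, 2, 1, 2], [1, 3, 1, 3], [1, 4, 1, 4], [0, 3, 2, 3, 2, 3, 2, 3, 2], [2, 4, 2, 4], [3, 4, 3, 4, 3, 4], [1, 2, 3, 4, 1, 2, 3, 4, 1, 2, 3, 4, 1, 2, 3, 4, 1, 2, 3, 4, 1, 2, 3, 4, 1, 2, 3, 4, 1, 2, 3, 4], [5, 5, 5, 5, 5, 5, 5], [6, 0, 5, 0], [6, 1, 5, 1], [6, 2, 5, 2], [5, 3, 5, 3], [4, 6, 4, 6, 6, 4, 5, 5, 5], [7, 7, 7], [8, 0, 7, 0], [8, 1, 7, 1], [8, 2, 7, 2], [8, 3, 7, 3], [8, 4, 7, 4], [8, 5, 7, 6, 6]] : List (List ℕ)), ev Cfsg.Agent.Spor.ThC.A4.π r = 1 :=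
  rels_of_checks Cfsg.Agent.Spor.ThC.A4.spec (K := 2) (by decide) sat_inv _ [[0, 1]] (by decide) ⟨sat_rel_0_0, trivial⟩

theorem sat_rel : ∀ r ∈ ([[0, 1, 0, 1, 0, 1], [0, 4, 0, 4], [1, 2, 1, 2, 1, 2], [1, 3, 1, 3], [1, 4, 1, 4], [0, 3, 2, 3, 2, 3, 2, 3, 2], [2, 4, 2, 4], [3, 4, 3, 4, 3, 4], [1, 2, 3, 4, 1, 2, 3, 4, 1, 2, 3, 4, 1, 2, 3, 4, 1, 2, 3, 4, 1, 2, 3, 4, 1, 2, 3, 4, 1, 2, 3, 4], [5, 5, 5, 5, 5, 5, 5], [6, 0, 5, 0], [6, 1, 5, 1], [6, 2, 5, 2], [5, 3, 5, 3], [4, 6, 4, 6, 6, 4, 5, 5, 5], [7, 7, 7], [8, 0, 7, 0], [8, 1, 7, 1], [8, 2, 7, 2], [8, 3, 7, 3], [8, 4, 7, 4], [8, 5, 7, 6, 6]] : List (List ℕ)), ev Cfsg.Agent.Spor.ThC.A4.π r = 1 :=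
  rels_join [[[0, 1, 0, 1, 0, 1], [0, 4, 0, 4], [1, 2, 1, 2, 1, 2], [1, 3, 1, 3], [1, 4, 1, 4], [0, 3, 2, 3, 2, 3, 2, 3, 2], [2, 4, 2, 4], [3, 4, 3, 4, 3, 4], [1, 2, 3, 4, 1, 2, 3, 4, 1, 2, 3, 4, 1, 2, 3, 4, 1, 2, 3, 4, 1, 2, 3, 4, 1, 2, 3, 4, 1, 2, 3, 4], [5, 5, 5, 5, 5, 5, 5], [6, 0, 5, 0], [6, 1, 5, 1], [6, 2, 5, 2], [5, 3, 5, 3], [4, 6, 4, 6, 6, 4, 5, 5, 5], [7, 7, 7], [8, 0, 7, 0], [8, 1, 7, 1], [8, 2, 7, 2], [8, 3, 7, 3], [8, 4, 7, 4], [8, 5, 7, 6, 6]]] ⟨sat_rel_0, trivial⟩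

theorem sat : Sat Cfsg.Agent.Spor.ThC.PH Cfsg.Agent.Spor.ThC.A4.π :=
  ⟨Cfsg.Agent.Spor.ThC.A4.out, sat_inv, sat_rel⟩

noncomputable def done_tr0 : ℕ := nat_lit 0x4

noncomputable def done_tr1 : ℕ := nat_lit 0

noncomputable def done_tr2 : ℕ := nat_lit 0

noncomputable def done_tr3 : ℕ := nat_lit 0x6

noncomputable def done_t0_0 : ℕ := nat_lit 0x1

noncomputable def done_t0_1 : ℕ := nat_lit 0x6

noncomputable def done_t1_0 : ℕ := nat_lit 0x1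

noncomputable def done_t1_1 : ℕ := nat_lit 0x6

noncomputable def done_t2_0 : ℕ := nat_lit 0x1

noncomputable def done_t2_1 : ℕ := nat_lit 0x6

noncomputable def done_t3_0 : ℕ := nat_lit 0x1

noncomputable def done_t3_1 : ℕ := nat_lit 0x6

noncomputable def done_t4_0 : ℕ := nat_lit 0x1

noncomputable def done_t4_1 : ℕ := nat_lit 0x6

noncomputable def done_t5_0 : ℕ := nat_lit 0x3

noncomputable def done_t5_1 : ℕ := nat_lit 0x6

noncomputable def done_t6_0 : ℕ := nat_lit 0x3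

noncomputable def done_t6_1 : ℕ := nat_lit 0x6

noncomputable def done_t7_0 : ℕ := nat_lit 0x1

noncomputable def done_t7_1 : ℕ := nat_lit 0x4

noncomputable def done_t8_0 : ℕ := nat_lit 0x1

noncomputable def done_t8_1 : ℕ := nat_lit 0x2

noncomputable def doneC : TC := ⟨Cfsg.Agent.Spor.ThC.PH, [[0], [1], [2], [3], [4], [5], [6]], 3, 3, 2, 2, [done_tr0, done_tr1, done_tr2, done_tr3],
  [[done_t0_0, done_t0_1],
   [done_t1_0, done_t1_1],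
   [done_t2_0, done_t2_1],
   [done_t3_0, done_t3_1],
   [done_t4_0, done_t4_1],
   [done_t5_0, done_t5_1],
   [done_t6_0, done_t6_1],
   [done_t7_0, done_t7_1],
   [done_t8_0, done_t8_1]]⟩

theorem done_s : doneC.structC Cfsg.Agent.Spor.ThC.A4.act = true :=
  by decide +kernel

theorem done_c0_0 : doneC.coverC Cfsg.Agent.Spor.ThC.A4.act 0 true [] [(true, 0, 0, 0), (false, 48, 1, 0), (false, 48, 3, 1)] 0 (ones 3) = true :=
  by decide +kernel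

theorem done_j0 : doneC.JustS Cfsg.Agent.Spor.ThC.A4.π 0 (ones 3) :=
  TC.cover_step Cfsg.Agent.Spor.ThC.A4.spec done_s (TC.justS_zero 0) done_c0_0

theorem done_c1_0 : doneC.coverC Cfsg.Agent.Spor.ThC.A4.act 1 true [] [(true, 1, 0, 0), (false, 51, 1, 0), (false, 51, 3, 1)] 0 (ones 3) = true :=
  by decide +kernel

theorem done_j1 : doneC.JustS Cfsg.Agent.Spor.ThC.A4.π 1 (ones 3) :=
  TC.cover_step Cfsg.Agent.Spor.ThC.A4.spec done_s (TC.justS_zero 1) done_c1_0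

theorem done_c2_0 : doneC.coverC Cfsg.Agent.Spor.ThC.A4.act 2 true [] [(true, 2, 0, 0), (false, 54, 1, 0), (false, 54, 3, 1)] 0 (ones 3) = true :=
  by decide +kernel

theorem done_j2 : doneC.JustS Cfsg.Agent.Spor.ThC.A4.π 2 (ones 3) :=
  TC.cover_step Cfsg.Agent.Spor.ThC.A4.spec done_s (TC.justS_zero 2) done_c2_0

theorem done_c3_0 : doneC.coverC Cfsg.Agent.Spor.ThC.A4.act 3 true [] [(true, 3, 0, 0), (false, 57, 1, 0), (false, 57, 3, 1)] 0 (ones 3) = true :=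
  by decide +kernel

theorem done_j3 : doneC.JustS Cfsg.Agent.Spor.ThC.A4.π 3 (ones 3) :=
  TC.cover_step Cfsg.Agent.Spor.ThC.A4.spec done_s (TC.justS_zero 3) done_c3_0

theorem done_c4_0 : doneC.coverC Cfsg.Agent.Spor.ThC.A4.act 4 true [] [(true, 4, 0, 0), (false, 60, 1, 0), (false, 60, 3, 1)] 0 (ones 3) = true :=
  by decide +kernel

theorem done_j4 : doneC.JustS Cfsg.Agent.Spor.ThC.A4.π 4 (ones 3) :=
  TC.cover_step Cfsg.Agent.Spor.ThC.A4.spec done_s (TC.justS_zero 4) done_c4_0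

theorem done_c5_0 : doneC.coverC Cfsg.Agent.Spor.ThC.A4.act 5 true [] [(true, 5, 0, 0), (false, 63, 1, 2), (false, 63, 1, 0)] 0 (ones 3) = true :=
  by decide +kernel

theorem done_j5 : doneC.JustS Cfsg.Agent.Spor.ThC.A4.π 5 (ones 3) :=
  TC.cover_step Cfsg.Agent.Spor.ThC.A4.spec done_s (TC.justS_zero 5) done_c5_0

theorem done_c6_0 : doneC.coverC Cfsg.Agent.Spor.ThC.A4.act 6 true [] [(true, 6, 0, 0), (false, 64, 3, 2), (false, 64, 3, 0)] 0 (ones 3) = true :=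
  by decide +kernel

theorem done_j6 : doneC.JustS Cfsg.Agent.Spor.ThC.A4.π 6 (ones 3) :=
  TC.cover_step Cfsg.Agent.Spor.ThC.A4.spec done_s (TC.justS_zero 6) done_c6_0

theorem done_c7_0 : doneC.coverC Cfsg.Agent.Spor.ThC.A4.act 7 true [] [(false, 23, 1, 0), (false, 45, 0, 1)] 0 (ones 3) = true :=
  by decide +kernel

theorem done_j7 : doneC.JustS Cfsg.Agent.Spor.ThC.A4.π 7 (ones 3) :=
  TC.cover_step Cfsg.Agent.Spor.ThC.A4.spec done_s (TC.justS_zero 7) done_c7_0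

theorem done_c8_0 : doneC.coverC Cfsg.Agent.Spor.ThC.A4.act 8 true [] [(false, 23, 0, 1), (false, 46, 0, 2)] 0 (ones 3) = true :=
  by decide +kernel

theorem done_j8 : doneC.JustS Cfsg.Agent.Spor.ThC.A4.π 8 (ones 3) :=
  TC.cover_step Cfsg.Agent.Spor.ThC.A4.spec done_s (TC.justS_zero 8) done_c8_0

theorem done : doneC.Done Cfsg.Agent.Spor.ThC.A4.π :=
  TC.done_of Cfsg.Agent.Spor.ThC.A4.spec sat done_s ⟨done_j0, done_j1, done_j2, done_j3, done_j4, done_j5, done_j6, done_j7, done_j8, trivial⟩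

end A4

theorem iA4 : Impl Cfsg.Agent.Spor.ThC.PH Cfsg.Agent.Spor.ThC.P3 [[0], [1], [2], [3], [4], [5], [6]] :=
  impl_of_subC (P := Cfsg.Agent.Spor.ThC.PH) (c1 := [(66, 0), (66, 0), (66, 0), (66, 0), (66, 0), (66, 0), (66, 0)]) (c2 := [(0, 0), (3, 0), (6, 0), (9, 0), (12, 0), (15, 0), (18, 0), (21, 0), (24, 0), (27, 0), (30, 0), (33, 0), (36, 0), (39, 0), (42, 0)]) (by decide +kernel)

theorem boundH0 : Bound Cfsg.Agent.Spor.ThC.PH 634023936 :=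
  A4.done.bound' b3 iA4 ⟨inSub_of_mem (by decide), inSub_of_mem (by decide), inSub_of_mem (by decide), inSub_of_mem (by decide), inSub_of_mem (by decide), inSub_of_mem (by decide), inSub_of_mem (by decide), trivial⟩

theorem boundH : Bound PH 634023936 :=
  boundH0

def ws3 : List (List ℕ) := [[0], [1], [2], [3], [4], [5], [6]]

theorem impl30 : Impl Cfsg.Agent.Spor.ThC.PH Cfsg.Agent.Spor.ThC.P3 [[0], [1], [2], [3], [4], [5], [6]] :=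
  impl_of_subC (P := Cfsg.Agent.Spor.ThC.PH) (c1 := [(66, 0), (66, 0), (66, 0), (66, 0), (66, 0), (66, 0), (66, 0)]) (c2 := [(0, 0), (3, 0), (6, 0), (9, 0), (12, 0), (15, 0), (18, 0), (21, 0), (24, 0), (27, 0), (30, 0), (33, 0), (36, 0), (39, 0), (42, 0)]) (by decide +kernel)

theorem impl3 : Impl PH P3 ws3 :=
  impl30

theorem implP30 : Impl Cfsg.Agent.Spor.ThC.P Cfsg.Agent.Spor.ThC.P3 [[0], [1], [2], [3], [4], [5], [6]] :=
  impl_of_subC (P := Cfsg.Agent.Spor.ThC.P) (c1 := [(102, 0), (102, 0), (102, 0), (102, 0), (102, 0), (102, 0), (102, 0)]) (c2 := [(0, 0), (3, 0), (6, 0), (9, 0), (12, 0), (15, 0), (18, 0), (21, 0), (24, 0), (27, 0), (30, 0), (33, 0), (36, 0), (39, 0), (42, 0)]) (by decide +kernel)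

theorem implP3 : Impl P P3 ws3 :=
  implP30

namespace S
theorem sat : Sat P3 (subT Cfsg.Agent.Spor.ThC.N1.π ws3) :=
  impl3 _ _ N1.sat

def ws : List (List ℕ) := [[0], [2], [3], [4], [5], [6]]

theorem orb0S_0 : orbC (subAct Cfsg.Agent.Spor.ThC.N1.act ws3) [] [[0], [1], [2], [3], [4], [5], [6]] 5 (Nat.shiftLeft 1 0) (ones 819) = true :=
  by decide +kernel

theorem orb0S : OrbS (subT Cfsg.Agent.Spor.ThC.N1.π ws3) [] 0 (ones 819) :=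
  orbS_step (Cfsg.Agent.Spor.ThC.N1.spec.sub ws3) (orbS_init (subT Cfsg.Agent.Spor.ThC.N1.π ws3) [] 0) orb0S_0

theorem orb0 : PModel.IsOrbit (subT Cfsg.Agent.Spor.ThC.N1.π ws3) 0 (ones 819) 819 :=
  PModel.isOrbit_of (Cfsg.Agent.Spor.ThC.N1.spec.sub ws3) (nl := 7) (K := 10) (PModel.subT_out Cfsg.Agent.Spor.ThC.N1.π ws3) orb0S (by decide +kernel)

theorem hfix : allL (fixC (subAct Cfsg.Agent.Spor.ThC.N1.act ws3) [0]) ws = true :=
  by decide +kernel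

noncomputable def so0S_S0 : ℕ := nat_lit 0x7ffffffffffffff1fffffffff3ffffff8003fffffff807fff0003ffffffffffff0000fffffc0000003fffffffff80007f8001ffffffffffc0000003ffc0003ffffffc000e010ffffffffc0003c01ffff804001ffff00407fc0000ff801fc001fc3f80fe71dbbe

theorem so0S_0 : orbC (subAct (subAct Cfsg.Agent.Spor.ThC.N1.act ws3) ws) [] [[0], [1], [2], [3], [4], [5]] 5 (Nat.shiftLeft 1 1) so0S_S0 = true :=
  by decide +kernel

theorem so0S : OrbS (subT (subT Cfsg.Agent.Spor.ThC.N1.π ws3) ws) [] 1 so0S_S0 :=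
  orbS_step ((Cfsg.Agent.Spor.ThC.N1.spec.sub ws3).sub ws) (orbS_init (subT (subT Cfsg.Agent.Spor.ThC.N1.π ws3) ws) [] 1) so0S_0

theorem so0 : PModel.IsOrbit (subT (subT Cfsg.Agent.Spor.ThC.N1.π ws3) ws) 1 so0S_S0 512 :=
  PModel.isOrbit_of ((Cfsg.Agent.Spor.ThC.N1.spec.sub ws3).sub ws) (nl := ws.length) (K := 10) (PModel.subT_out (subT Cfsg.Agent.Spor.ThC.N1.π ws3) ws) so0S (by decide +kernel)

noncomputable def so1S_S0 : ℕ := nat_lit 0xf000000003f000001e00060440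

theorem so1S_0 : orbC (subAct (subAct Cfsg.Agent.Spor.ThC.N1.act ws3) ws) [] [[0], [1], [2], [3], [4], [5]] 2 (Nat.shiftLeft 1 6) so1S_S0 = true :=
  by decide +kernel

theorem so1S : OrbS (subT (subT Cfsg.Agent.Spor.ThC.N1.π ws3) ws) [] 6 so1S_S0 :=
  orbS_step ((Cfsg.Agent.Spor.ThC.N1.spec.sub ws3).sub ws) (orbS_init (subT (subT Cfsg.Agent.Spor.ThC.N1.π ws3) ws) [] 6) so1S_0

theorem so1 : PModel.IsOrbit (subT (subT Cfsg.Agent.Spor.ThC.N1.π ws3) ws) 6 so1S_S0 18 :=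
  PModel.isOrbit_of ((Cfsg.Agent.Spor.ThC.N1.spec.sub ws3).sub ws) (nl := ws.length) (K := 10) (PModel.subT_out (subT Cfsg.Agent.Spor.ThC.N1.π ws3) ws) so1S (by decide +kernel)

noncomputable def so2S_S0 : ℕ := nat_lit 0xe000000000c0000007ffc00000007f8000fffc000000000000ffff000003ffffffc0000000007fff807ffe00000000003ffffffc003fffc0000003fff1fef000000003fffc3fe00007fbffe0000ffbf803ff0f007fe03c0e03c06101882000

theorem so2S_0 : orbC (subAct (subAct Cfsg.Agent.Spor.ThC.N1.act ws3) ws) [] [[0], [1], [2], [3], [4], [5]] 4 (Nat.shiftLeft 1 13) so2S_S0 = true :=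
  by decide +kernel

theorem so2S : OrbS (subT (subT Cfsg.Agent.Spor.ThC.N1.π ws3) ws) [] 13 so2S_S0 :=
  orbS_step ((Cfsg.Agent.Spor.ThC.N1.spec.sub ws3).sub ws) (orbS_init (subT (subT Cfsg.Agent.Spor.ThC.N1.π ws3) ws) [] 13) so2S_0

theorem so2 : PModel.IsOrbit (subT (subT Cfsg.Agent.Spor.ThC.N1.π ws3) ws) 13 so2S_S0 288 :=
  PModel.isOrbit_of ((Cfsg.Agent.Spor.ThC.N1.spec.sub ws3).sub ws) (nl := ws.length) (K := 10) (PModel.subT_out (subT Cfsg.Agent.Spor.ThC.N1.π ws3) ws) so2S (by decide +kernel)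

theorem chH_l0 : LevelOK (subT (subT Cfsg.Agent.Spor.ThC.N1.π ws3) ws) [] 1 512 :=
  so0.level

theorem chH_c1 : levelC (subAct (subAct Cfsg.Agent.Spor.ThC.N1.act ws3) ws) 10 [1] 8 [[2], [3], [4], [5]] 3 72 = true :=
  by decide +kernel

theorem chH_l1 : LevelOK (subT (subT Cfsg.Agent.Spor.ThC.N1.π ws3) ws) [1] 8 72 :=
  level_of_check ((Cfsg.Agent.Spor.ThC.N1.spec.sub ws3).sub ws) chH_c1

theorem chH_c2 : levelC (subAct (subAct Cfsg.Agent.Spor.ThC.N1.act ws3) ws) 10 [8, 1] 9 [[4], [5]] 3 7 = true :=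
  by decide +kernel

theorem chH_l2 : LevelOK (subT (subT Cfsg.Agent.Spor.ThC.N1.π ws3) ws) [8, 1] 9 7 :=
  level_of_check ((Cfsg.Agent.Spor.ThC.N1.spec.sub ws3).sub ws) chH_c2

theorem chH : ChainOK (subT (subT Cfsg.Agent.Spor.ThC.N1.π ws3) ws) [] [(1, 512), (8, 72), (9, 7)] :=
  ⟨chH_l0, chH_l1, chH_l2, trivial⟩

theorem ch : ChainOK (subT Cfsg.Agent.Spor.ThC.N1.π ws3) [] [(0, 819), (1, 512), (8, 72), (9, 7)] :=
  ⟨orb0.level, ChainOK.of_sub (Cfsg.Agent.Spor.ThC.N1.spec.sub ws3) hfix chH⟩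

theorem mod : Nat.card (gen (subT Cfsg.Agent.Spor.ThC.N1.π ws3)) = 211341312 ∧ PModel Cfsg.Agent.Spor.ThC.P3 (selfT (subT Cfsg.Agent.Spor.ThC.N1.π ws3)) (subT Cfsg.Agent.Spor.ThC.N1.π ws3) [9, 8, 1, 0] (gen (subT Cfsg.Agent.Spor.ThC.N1.π ws3)).subtype :=
  model_self b3 sat ch (by decide)

theorem card : Nat.card (gen (subT Cfsg.Agent.Spor.ThC.N1.π ws3)) = 211341312 :=
  mod.1

theorem model : PModel Cfsg.Agent.Spor.ThC.P3 (selfT (subT Cfsg.Agent.Spor.ThC.N1.π ws3)) (subT Cfsg.Agent.Spor.ThC.N1.π ws3) [9, 8, 1, 0] (gen (subT Cfsg.Agent.Spor.ThC.N1.π ws3)).subtype :=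
  mod.2

theorem hstab : gen (subT (selfT (subT Cfsg.Agent.Spor.ThC.N1.π ws3)) ws) = fixS (gen (subT Cfsg.Agent.Spor.ThC.N1.π ws3)).subtype [0] :=
  model.sub_eq_stab (Cfsg.Agent.Spor.ThC.N1.spec.sub ws3) orb0 hfix chH (card.le.trans (by decide))

theorem link : Link Cfsg.Agent.Spor.ThC.P3 (selfT (subT Cfsg.Agent.Spor.ThC.N1.π ws3)) :=
  model.link b3 card

theorem faithful : Faithful Cfsg.Agent.Spor.ThC.P3 (subT Cfsg.Agent.Spor.ThC.N1.π ws3) [9, 8, 1, 0] :=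
  model.faithful b3 card

theorem soP0 : OrbS (subT Cfsg.Agent.Spor.ThC.N1.π ws3) [0] 1 so0S_S0 :=
  OrbS.of_sub (Cfsg.Agent.Spor.ThC.N1.spec.sub ws3) so0.orbS hfix

theorem soP1 : OrbS (subT Cfsg.Agent.Spor.ThC.N1.π ws3) [0] 6 so1S_S0 :=
  OrbS.of_sub (Cfsg.Agent.Spor.ThC.N1.spec.sub ws3) so1.orbS hfix

theorem soP2 : OrbS (subT Cfsg.Agent.Spor.ThC.N1.π ws3) [0] 13 so2S_S0 :=
  OrbS.of_sub (Cfsg.Agent.Spor.ThC.N1.spec.sub ws3) so2.orbS hfix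

theorem prim0 : PrimOn (subT Cfsg.Agent.Spor.ThC.N1.π ws3) 0 (ones 819) so0S_S0 :=
  primOn_of_letters (Cfsg.Agent.Spor.ThC.N1.spec.sub ws3) (g := [1]) (hs := ws) (by decide +kernel) soP0 orb0 (PModel.subT_out Cfsg.Agent.Spor.ThC.N1.π ws3) (by decide +kernel)

theorem prim1 : PrimOn (subT Cfsg.Agent.Spor.ThC.N1.π ws3) 0 (ones 819) so1S_S0 :=
  PrimOn.of_word (Cfsg.Agent.Spor.ThC.N1.spec.sub ws3) (g := [1, 2, 0, 1]) (hs := ws) prim0 (by decide +kernel) soP1 [0, 3, 0, 3, 0] (by decide +kernel)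

theorem prim2 : PrimOn (subT Cfsg.Agent.Spor.ThC.N1.π ws3) 0 (ones 819) so2S_S0 :=
  PrimOn.of_word (Cfsg.Agent.Spor.ThC.N1.spec.sub ws3) (g := [1, 2, 3, 2, 1]) (hs := ws) prim0 (by decide +kernel) soP2 [0, 3, 0] (by decide +kernel)

theorem prim : AllP (PrimOn (subT Cfsg.Agent.Spor.ThC.N1.π ws3) 0 (ones 819)) [so0S_S0, so1S_S0, so2S_S0] :=
  ⟨prim0, prim1, prim2, trivial⟩

theorem cover : subs (ones 819) (orL [so0S_S0, so1S_S0, so2S_S0] (Nat.shiftLeft 1 0)) = true :=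
  by decide +kernel

theorem st0 : fixC (subAct Cfsg.Agent.Spor.ThC.N1.act ws3) [9, 8, 1, 0] (substU Cfsg.Agent.Spor.ThC.P3.inv.length [2, 4, 1, 0, 3, 5] [6, 6, 7, 5, 5, 4, 6, 6, 7, 5, 5, 4, 6, 6, 7, 5, 5, 4, 6, 6, 7, 5, 5, 4, 6, 6, 7, 5, 5, 4, 6, 6, 7, 5, 5, 4, 6, 6, 7, 5, 5, 4]) = true :=
  by decide +kernel

theorem st1 : fixC (subAct Cfsg.Agent.Spor.ThC.N1.act ws3) [9, 8, 1, 0] (substU Cfsg.Agent.Spor.ThC.P3.inv.length [2, 4, 1, 0, 3, 5] [3, 4, 3, 4, 3, 4]) = true :=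
  by decide +kernel

theorem st2 : fixC (subAct Cfsg.Agent.Spor.ThC.N1.act ws3) [9, 8, 1, 0] (substU Cfsg.Agent.Spor.ThC.P3.inv.length [2, 4, 1, 0, 3, 5] [0, 3, 2, 3, 2, 3, 2, 3, 2]) = true :=
  by decide +kernel

theorem st3 : fixC (subAct Cfsg.Agent.Spor.ThC.N1.act ws3) [9, 8, 1, 0] (substU Cfsg.Agent.Spor.ThC.P3.inv.length [2, 4, 1, 0, 3, 5] [0, 1, 0, 1, 0, 1]) = true :=
  by decide +kernel

theorem st4 : fixC (subAct Cfsg.Agent.Spor.ThC.N1.act ws3) [9, 8, 1, 0] (substU Cfsg.Agent.Spor.ThC.P3.inv.length [2, 4, 1, 0, 3, 5] [1, 2, 1, 2, 1, 2]) = true :=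
  by decide +kernel

theorem st5 : fixC (subAct Cfsg.Agent.Spor.ThC.N1.act ws3) [9, 8, 1, 0] (substU Cfsg.Agent.Spor.ThC.P3.inv.length [2, 4, 1, 0, 3, 5] [5, 5, 5, 5, 5, 5, 3, 6, 3, 6, 3, 6, 3, 6, 3, 6, 3]) = true :=
  by decide +kernel

theorem simple : IsSimpleGroup (gen (subT Cfsg.Agent.Spor.ThC.N1.π ws3)) :=
  model.simple (Cfsg.Agent.Spor.ThC.N1.spec.sub ws3) card orb0 prim cover (by decide +kernel) (u := [2, 4, 1, 0, 3, 5]) (m := 13) (by norm_num) (by decide +kernel)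
    (steps := [(4, [6, 6, 7, 5, 5, 4, 6, 6, 7, 5, 5, 4, 6, 6, 7, 5, 5, 4, 6, 6, 7, 5, 5, 4, 6, 6, 7, 5, 5, 4, 6, 6, 7, 5, 5, 4, 6, 6, 7, 5, 5, 4]), (3, [3, 4, 3, 4, 3, 4]), (0, [0, 3, 2, 3, 2, 3, 2, 3, 2]), (1, [0, 1, 0, 1, 0, 1]), (2, [1, 2, 1, 2, 1, 2]), (5, [5, 5, 5, 5, 5, 5, 3, 6, 3, 6, 3, 6, 3, 6, 3, 6, 3])])
    ⟨st0, st1, st2, st3, st4, st5, trivial⟩ (by decide +kernel)

end S

/-- every non-trivial tuple satisfying `P3` generates a simple group of the order of ³D₄(2) -/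
theorem simple3 {K : Type} [Group K] {y : ℕ → K} (hy : Sat P3 y) {W : List ℕ} (hW : ev y W ≠ 1) :
    IsSimpleGroup (gen y) ∧ Nat.card (gen y) = 211341312 := by
  have := S.simple
  obtain ⟨e⟩ := S.link.equiv_of_simple hy hW
  exact ⟨e.symm.isSimpleGroup, by rw [← Nat.card_congr e.toEquiv, S.card]⟩

theorem is3D4 {K : Type} [Group K] {y : ℕ → K} (hy : Sat P3 y) {W : List ℕ} (hW : ev y W ≠ 1) :
    Cfsg.Is3D4 (gen y) :=
  ⟨(simple3 hy hW).1, 2, Nat.prime_two.isPrimePow, by rw [(simple3 hy hW).2]; norm_num⟩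

end Cfsg.Agent.Spor.ThC
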