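import Cfsg.Agent.Comp.Xfer2

set_option autoImplicit false
set_option maxRecDepth 4096

namespace Cfsg.Agent.Spor.ThC.A9

open Cfsg.Agent.Comp

noncomputable def ns_0 : Net :=
 (Net.cons (nat_lit 8) 128
 (Net.cons (nat_lit 4) 2062
 (Net.cons (nat_lit 2) 562
 (Net.cons (nat_lit 1) 260
 (Net.cons (nat_lit 2) 514
 (Net.cons (nat_lit 4) 2062
 (Net.cons (nat_lit 8) 128
 Net.nil)))))))

noncomputable def ns_1 : Net :=
 (Net.cons (nat_lit 8) 64
 (Net.cons (nat_lit 4) 1028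
 (Net.cons (nat_lit 2) 304
 (Net.cons (nat_lit 1) 81
 (Net.cons (nat_lit 4) 1028
 (Net.cons (nat_lit 8) 64
 Net.nil))))))

noncomputable def ns_2 : Net :=
 (Net.cons (nat_lit 8) 177
 (Net.cons (nat_lit 4) 2816
 (Net.cons (nat_lit 2) 513
 (Net.cons (nat_lit 1) 256
 (Net.cons (nat_lit 4) 2564
 (Net.cons (nat_lit 8) 176
 Net.nil))))))

noncomputable def ns_3 : Net :=
 (Net.cons (nat_lit 4) 8
 (Net.cons (nat_lit 1) 20
 (Net.cons (nat_lit 4) 8
 Net.nil)))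

noncomputable def ns_4 : Net :=
 (Net.cons (nat_lit 8) 4
 (Net.cons (nat_lit 2) 306
 (Net.cons (nat_lit 1) 1
 (Net.cons (nat_lit 2) 2
 (Net.cons (nat_lit 8) 4
 Net.nil)))))

noncomputable def ns_5 : Net :=
 (Net.cons (nat_lit 8) 193
 (Net.cons (nat_lit 4) 3079
 (Net.cons (nat_lit 2) 272
 (Net.cons (nat_lit 1) 1025
 (Net.cons (nat_lit 4) 3078
 (Net.cons (nat_lit 8) 192
 Net.nil))))))

noncomputable def ns_6 : Net :=
 (Net.cons (nat_lit 4) 8
 (Net.cons (nat_lit 1) 16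
 (Net.cons (nat_lit 2) 32
 (Net.cons (nat_lit 4) 8
 Net.nil))))

noncomputable def ns_7 : Net :=
 (Net.cons (nat_lit 8) 252
 (Net.cons (nat_lit 4) 1536
 (Net.cons (nat_lit 2) 4864
 (Net.cons (nat_lit 1) 256
 (Net.cons (nat_lit 4) 2560
 (Net.cons (nat_lit 8) 252
 Net.nil))))))

noncomputable def ns_8 : Net :=
 (Net.cons (nat_lit 8) 24
 (Net.cons (nat_lit 4) 2304
 (Net.cons (nat_lit 2) 8192
 (Net.cons (nat_lit 1) 4096
 (Net.cons (nat_lit 2) 8192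
 (Net.cons (nat_lit 4) 2048
 (Net.cons (nat_lit 8) 24
 Net.nil)))))))

noncomputable def ns_9 : Net :=
 (Net.cons (nat_lit 8) 192
 (Net.cons (nat_lit 4) 3080
 (Net.cons (nat_lit 2) 256
 (Net.cons (nat_lit 1) 1040
 (Net.cons (nat_lit 2) 32
 (Net.cons (nat_lit 4) 3080
 (Net.cons (nat_lit 8) 192
 Net.nil)))))))

noncomputable def ns_10 : Net :=
 (Net.cons (nat_lit 2) 48
 (Net.cons (nat_lit 1) 64
 (Net.cons (nat_lit 2) 32
 Net.nil)))

noncomputable def ns_11 : Net :=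
 (Net.cons (nat_lit 8) 64
 (Net.cons (nat_lit 4) 1024
 (Net.cons (nat_lit 2) 288
 (Net.cons (nat_lit 4) 1024
 (Net.cons (nat_lit 8) 64
 Net.nil)))))

noncomputable def ns_12 : Net :=
 (Net.cons (nat_lit 8) 192
 (Net.cons (nat_lit 4) 3072
 (Net.cons (nat_lit 2) 256
 (Net.cons (nat_lit 1) 1024
 (Net.cons (nat_lit 4) 3072
 (Net.cons (nat_lit 8) 192
 Net.nil))))))

noncomputable def ns_13 : Net :=
 (Net.cons (nat_lit 8) 160
 (Net.cons (nat_lit 4) 2560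
 (Net.cons (nat_lit 2) 512
 (Net.cons (nat_lit 1) 256
 (Net.cons (nat_lit 4) 2560
 (Net.cons (nat_lit 8) 160
 Net.nil))))))

noncomputable def ns : List Net := [ns_0, ns_1, ns_2, ns_3, ns_4, ns_5, ns_6, ns_7, ns_8, ns_9, ns_10, ns_11, ns_12, ns_13]

theorem ctx : Ctx 16 4 ns := ctx_of (by decide +kernel)

noncomputable def G_C7 : List Lvl :=
  []

noncomputable def G_ss6 : List (List ℕ) :=
  [[27]]

noncomputable def G_D6 : ℕ :=
  416

noncomputable def G_l6 : Lvl :=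
  ⟨5, [[27]],
  tabA [(7, 1280), (8, 1281)], 1⟩

noncomputable def G_C6 : List Lvl :=
  G_l6 :: G_C7

noncomputable def G_ss5 : List (List ℕ) :=
  [[24], [26]]

noncomputable def G_D5 : ℕ :=
  480

noncomputable def G_l5 : Lvl :=
  ⟨6, [[24], [26], [27]],
  tabA [(7, 1536), (8, 1537), (5, 1794)], 2⟩

noncomputable def G_C5 : List Lvl :=
  G_l5 :: G_C6

noncomputable def G_ss4 : List (List ℕ) :=
  [[20], [22]]

noncomputable def G_D4 : ℕ :=
  496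

noncomputable def G_l4 : Lvl :=
  ⟨4, [[20], [22], [24], [26], [27]],
  tabA [(6, 1024), (5, 1025), (8, 1538), (7, 1540)], 2⟩

noncomputable def G_C4 : List Lvl :=
  G_l4 :: G_C5

noncomputable def G_ss3 : List (List ℕ) :=
  [[16], [18]]

noncomputable def G_D3 : ℕ :=
  504

noncomputable def G_l3 : Lvl :=
  ⟨3, [[16], [18], [20], [22], [24], [26], [27]],
  tabA [(8, 768), (4, 769), (5, 771), (6, 2050), (7, 2051)], 2⟩

noncomputable def G_C3 : List Lvl :=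
  G_l3 :: G_C4

noncomputable def G_ss2 : List (List ℕ) :=
  [[12], [14]]

noncomputable def G_D2 : ℕ :=
  508

noncomputable def G_l2 : Lvl :=
  ⟨2, [[12], [14], [16], [18], [20], [22], [24], [26], [27]],
  tabA [(8, 514), (4, 515), (3, 2050), (6, 2054), (7, 2055), (5, 2063)], 2⟩

noncomputable def G_C2 : List Lvl :=
  G_l2 :: G_C3

noncomputable def G_ss1 : List (List ℕ) :=
  [[8], [10]]

noncomputable def G_D1 : ℕ :=
  509

noncomputable def G_l1 : Lvl :=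
  ⟨0, [[8], [10], [12], [14], [16], [18], [20], [22], [24], [26], [27]],
  tabA [(3, 0), (5, 2), (7, 3), (4, 772), (8, 775), (6, 1286), (2, 1026)], 3⟩

noncomputable def G_C1 : List Lvl :=
  G_l1 :: G_C2

noncomputable def G_ss0 : List (List ℕ) :=
  [[0], [2], [4], [6]]

noncomputable def G_D0 : ℕ :=
  511

noncomputable def G_l0 : Lvl :=
  ⟨1, [[0], [2], [4], [6], [8], [10], [12], [14], [16], [18], [20], [22], [24], [26], [27]],
  tabA [(3, 256), (0, 258), (4, 780), (5, 781), (7, 782), (8, 783), (2, 4), (6, 1032)], 3⟩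

noncomputable def G_C0 : List Lvl :=
  G_l0 :: G_C1

theorem G_ver7 : Ver ns G_C7 1 :=
  ver_nil _

theorem G_le6 : gen ns G_l6.ws ≤ gen ns G_ss6 :=
  gen_le_step ctx (tgt := [])
  (es := []) (le_refl (gen _ [])) (by decide +kernel)

theorem G_lv6 : chkLvl 16 ns G_l6 G_C7 G_D6 2 = true :=
  by decide +kernel

theorem G_pt6_0 : AllIn (PtOK 16 ns G_l6 G_C7 G_ss6 G_D6) 0 64 :=
  ptOK_of_chkPts ctx G_ver7 (a := 0) (n := 1) (by decide +kernel)

theorem G_st6 : IsStab 16 (gen ns G_l6.ws) (cgrp ns G_C7) G_l6.b G_D6 :=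
  isStab_plain ctx G_le6 G_lv6 (by norm_num) G_pt6_0

theorem G_ver6 : Ver ns G_C6 3 :=
  G_ver7.cons ctx G_st6 (by decide +kernel)

theorem G_le5 : gen ns G_l5.ws ≤ gen ns G_ss5 :=
  gen_le_step ctx (tgt := [[27]])
  (es := [([27], [1, 2, 1])]) G_le6 (by decide +kernel)

theorem G_lv5 : chkLvl 16 ns G_l5 G_C6 G_D5 1 = true :=
  by decide +kernel

theorem G_pt5_0 : AllIn (PtOK 16 ns G_l5 G_C6 G_ss5 G_D5) 0 64 :=
  ptOK_of_chkPts ctx G_ver6 (a := 0) (n := 1) (by decide +kernel)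

theorem G_st5 : IsStab 16 (gen ns G_l5.ws) (cgrp ns G_C6) G_l5.b G_D5 :=
  isStab_plain ctx G_le5 G_lv5 (by norm_num) G_pt5_0

theorem G_ver5 : Ver ns G_C5 12 :=
  G_ver6.cons ctx G_st5 (by decide +kernel)

theorem G_le4 : gen ns G_l4.ws ≤ gen ns G_ss4 :=
  gen_le_step ctx (tgt := [[24], [26]])
  (es := [([24], [1, 3, 0, 2, 1, 1, 3]), ([26], [4, 4, 2, 2, 4, 2, 4, 2])]) G_le5 (by decide +kernel)

theorem G_lv4 : chkLvl 16 ns G_l4 G_C5 G_D4 1 = true :=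
  by decide +kernel

theorem G_pt4_0 : AllIn (PtOK 16 ns G_l4 G_C5 G_ss4 G_D4) 0 64 :=
  ptOK_of_chkPts ctx G_ver5 (a := 0) (n := 1) (by decide +kernel)

theorem G_st4 : IsStab 16 (gen ns G_l4.ws) (cgrp ns G_C5) G_l4.b G_D4 :=
  isStab_plain ctx G_le4 G_lv4 (by norm_num) G_pt4_0

theorem G_ver4 : Ver ns G_C4 60 :=
  G_ver5.cons ctx G_st4 (by decide +kernel)

theorem G_le3 : gen ns G_l3.ws ≤ gen ns G_ss3 :=
  gen_le_step ctx (tgt := [[20], [22]])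
  (es := [([20], [2, 1, 1, 2, 2]), ([22], [3, 4, 4, 2, 4, 3, 4, 4, 2, 5])]) G_le4 (by decide +kernel)

theorem G_lv3 : chkLvl 16 ns G_l3 G_C4 G_D3 1 = true :=
  by decide +kernel

theorem G_pt3_0 : AllIn (PtOK 16 ns G_l3 G_C4 G_ss3 G_D3) 0 64 :=
  ptOK_of_chkPts ctx G_ver4 (a := 0) (n := 1) (by decide +kernel)

theorem G_st3 : IsStab 16 (gen ns G_l3.ws) (cgrp ns G_C4) G_l3.b G_D3 :=
  isStab_plain ctx G_le3 G_lv3 (by norm_num) G_pt3_0

theorem G_ver3 : Ver ns G_C3 360 :=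
  G_ver4.cons ctx G_st3 (by decide +kernel)

theorem G_le2 : gen ns G_l2.ws ≤ gen ns G_ss2 :=
  gen_le_step ctx (tgt := [[16], [18]])
  (es := [([16], [2, 2, 0, 3, 3, 0, 0]), ([18], [5, 2, 4, 2])]) G_le3 (by decide +kernel)

theorem G_lv2 : chkLvl 16 ns G_l2 G_C3 G_D2 1 = true :=
  by decide +kernel

theorem G_pt2_0 : AllIn (PtOK 16 ns G_l2 G_C3 G_ss2 G_D2) 0 64 :=
  ptOK_of_chkPts ctx G_ver3 (a := 0) (n := 1) (by decide +kernel)

theorem G_st2 : IsStab 16 (gen ns G_l2.ws) (cgrp ns G_C3) G_l2.b G_D2 :=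
  isStab_plain ctx G_le2 G_lv2 (by norm_num) G_pt2_0

theorem G_ver2 : Ver ns G_C2 2520 :=
  G_ver3.cons ctx G_st2 (by decide +kernel)

theorem G_le1 : gen ns G_l1.ws ≤ gen ns G_ss1 :=
  gen_le_step ctx (tgt := [[12], [14]])
  (es := [([12], [2, 2, 1, 1, 3, 0, 3, 1, 3, 3]), ([14], [4, 4, 4, 2, 5, 5, 2, 4, 3, 5])]) G_le2 (by decide +kernel)

theorem G_lv1 : chkLvl 16 ns G_l1 G_C2 G_D1 2 = true :=
  by decide +kernel

theorem G_pt1_0 : AllIn (PtOK 16 ns G_l1 G_C2 G_ss1 G_D1) 0 64 :=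
  ptOK_of_chkPts ctx G_ver2 (a := 0) (n := 1) (by decide +kernel)

theorem G_st1 : IsStab 16 (gen ns G_l1.ws) (cgrp ns G_C2) G_l1.b G_D1 :=
  isStab_plain ctx G_le1 G_lv1 (by norm_num) G_pt1_0

theorem G_ver1 : Ver ns G_C1 20160 :=
  G_ver2.cons ctx G_st1 (by decide +kernel)

theorem G_le0 : gen ns G_l0.ws ≤ gen ns G_ss0 :=
  gen_le_step ctx (tgt := [[8], [10]])
  (es := [([8], [1, 3, 1]), ([10], [5, 3, 4, 9, 5, 9, 2, 4, 9, 7, 8])]) G_le1 (by decide +kernel)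

theorem G_lv0 : chkLvl 16 ns G_l0 G_C1 G_D0 1 = true :=
  by decide +kernel

theorem G_pt0_0 : AllIn (PtOK 16 ns G_l0 G_C1 G_ss0 G_D0) 0 64 :=
  ptOK_of_chkPts ctx G_ver1 (a := 0) (n := 1) (by decide +kernel)

theorem G_st0 : IsStab 16 (gen ns G_l0.ws) (cgrp ns G_C1) G_l0.b G_D0 :=
  isStab_plain ctx G_le0 G_lv0 (by norm_num) G_pt0_0

theorem G_ver0 : Ver ns G_C0 181440 :=
  G_ver1.cons ctx G_st0 (by decide +kernel)

theorem G_eq : gen ns G_ss0 = cgrp ns G_C0 :=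
  le_antisymm (gen_le_of_subsetL _ (by decide +kernel)) G_le0

theorem G_card : Nat.card (gen ns G_ss0) = 181440 :=
  by rw [G_eq]; exact G_ver0.card

theorem G_supp : gen ns G_ss0 ≤ suppSub 9 :=
  gen_le_supp_of_suppW ctx (by decide +kernel)

theorem iso : Nonempty (gen ns G_ss0 ≃* alternatingGroup (Fin 9)) :=
  exists_equiv_alt G_supp (by rw [G_card]; decide +kernel)

end Cfsg.Agent.Spor.ThC.A9
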