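import Cfsg.Agent.Comp.BitMore3
import Cfsg.Prelude.Def_Spor_Th

set_option autoImplicit false
set_option Elab.async false
set_option maxRecDepth 100000

namespace Cfsg.Agent.Spor.ThC

open Cfsg.Agent.Comp.BN

/-- letters: 0 = a, 1 = b, 2 = c, 3 = d, 4 = e, 5 = s, 6 = s⁻¹, 7 = t, 8 = t⁻¹, 9 = u, 10 = u⁻¹ -/

def P : Pres := ⟨[0, 1, 2, 3, 4, 6, 5, 8, 7, 10, 9],
  [[0, 1, 0, 1, 0, 1],
   [0, 4, 0, 4],
   [1, 2, 1, 2, 1, 2],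
   [1, 3, 1, 3],
   [1, 4, 1, 4],
   [0, 3, 2, 3, 2, 3, 2, 3, 2],
   [2, 4, 2, 4],
   [3, 4, 3, 4, 3, 4],
   [1, 2, 3, 4, 1, 2, 3, 4, 1, 2, 3, 4, 1, 2, 3, 4, 1, 2, 3, 4, 1, 2, 3, 4, 1, 2, 3, 4, 1, 2, 3, 4],
   [5, 5, 5, 5, 5, 5, 5],
   [6, 0, 5, 0],
   [6, 1, 5, 1],
   [6, 2, 5, 2],
   [5, 3, 5, 3],
   [4, 6, 4, 6, 6, 4, 5, 5, 5],
   [7, 7, 7],
   [8, 0, 7, 0],
   [8, 1, 7, 1],
   [8, 2, 7, 2],
   [8, 3, 7, 3],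
   [8, 4, 7, 4],
   [8, 5, 7, 6, 6],
   [9, 9, 2, 0],
   [10, 0, 9, 0],
   [10, 2, 9, 2],
   [10, 4, 9, 4],
   [3, 4, 10, 3, 9, 3, 4, 10, 3, 9],
   [10, 1, 2, 0, 1, 9, 1, 0, 2, 1, 4],
   [3, 10, 3, 1, 2, 0, 1, 3, 9, 3, 1, 0, 2, 1, 2, 4, 3, 10, 3, 1, 2, 0, 1, 4, 10],
   [10, 7, 9, 7],
   [4, 6, 6, 10, 5, 5, 4, 6, 6, 9, 5, 5],
   [0, 2, 6, 10, 6, 10, 6, 10],
   [0, 2, 6, 10, 5, 9, 6, 10, 5, 9, 6, 10, 5, 9, 6, 10, 5, 9],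
   [3, 6, 6, 9, 5, 5, 3, 6, 6, 9, 5, 5, 3, 6, 6, 9, 5, 5, 3, 6, 6, 9, 4, 3, 2, 3, 4, 5, 5, 5, 4, 3, 2, 3, 4, 6, 3, 2, 3, 2, 0]]⟩

def enc : Cfsg.Spor.Th.Gen → ℕ
  | .a => 0
  | .b => 1
  | .c => 2
  | .d => 3
  | .e => 4
  | .s => 5
  | .t => 7
  | .u => 9

def lt : List (FreeGroup Cfsg.Spor.Th.Gen) := [Cfsg.Spor.Th.a, Cfsg.Spor.Th.b, Cfsg.Spor.Th.c, Cfsg.Spor.Th.d, Cfsg.Spor.Th.e, Cfsg.Spor.Th.s, Cfsg.Spor.Th.s⁻¹, Cfsg.Spor.Th.t, Cfsg.Spor.Th.t⁻¹, Cfsg.Spor.Th.u, Cfsg.Spor.Th.u⁻¹]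

noncomputable def x : ℕ → Cfsg.Spor.Th := coxT Cfsg.Spor.Th.edges Cfsg.Spor.Th.extra lt

theorem hk : ∀ k < P.inv.length, ∃ q, k = enc q ∨ k = P.I (enc q) := by
  intro k hk
  change k < 11 at hk
  interval_cases k
  · exact ⟨.a, Or.inl rfl⟩
  · exact ⟨.b, Or.inl rfl⟩
  · exact ⟨.c, Or.inl rfl⟩
  · exact ⟨.d, Or.inl rfl⟩
  · exact ⟨.e, Or.inl rfl⟩
  · exact ⟨.s, Or.inl rfl⟩
  · exact ⟨.s, Or.inr rfl⟩
  · exact ⟨.t, Or.inl rfl⟩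
  · exact ⟨.t, Or.inr rfl⟩
  · exact ⟨.u, Or.inl rfl⟩
  · exact ⟨.u, Or.inr rfl⟩

theorem link : Link P x ∧ ∀ w, PresentedGroup.mk _ w = ev x (encW P enc w) :=
  link_cox enc [] lt (fun q => by cases q <;> decide) (by decide) (fun q => by cases q <;> rfl)
    ⟨(map_mul _ _ _).symm.trans ((congrArg _ (sq _).symm).trans (mk_extra (List.mem_of_getElem? (i := 0) rfl))), (map_mul _ _ _).symm.trans ((congrArg _ (sq _).symm).trans (mk_extra (List.mem_of_getElem? (i := 1) rfl))), (map_mul _ _ _).symm.trans ((congrArg _ (sq _).symm).trans (mk_extra (List.mem_of_getElem? (i := 2) rfl))), (map_mul _ _ _).symm.trans ((congrArg _ (sq _).symm).trans (mk_extra (List.mem_of_getElem? (i := 3) rfl))), (map_mul _ _ _).symm.trans ((congrArg _ (sq _).symm).trans (mk_extra (List.mem_of_getElem? (i := 4) rfl))), mk_inv_mul _,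 mk_mul_inv _, mk_inv_mul _, mk_mul_inv _, mk_inv_mul _, mk_mul_inv _, trivial⟩ hk
    (c1 := [(102, 0), (102, 0), (102, 0), (102, 0), (102, 0), (0, 0), (3, 0), (6, 0), (9, 0), (12, 0), (15, 0), (18, 0), (21, 0), (24, 0), (27, 0), (30, 0), (33, 0), (36, 0), (39, 0), (42, 0), (45, 0), (48, 0), (51, 0), (54, 0), (57, 0), (60, 0), (63, 0), (66, 0), (69, 0), (72, 0), (75, 0), (78, 0), (81, 0), (84, 0), (87, 0), (90, 0), (93, 0), (96, 0), (99, 0)])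
    (c2 := [(15, 0), (18, 0), (21, 0), (24, 0), (27, 0), (30, 0), (33, 0), (36, 0), (39, 0), (42, 0), (45, 0), (48, 0), (51, 0), (54, 0), (57, 0), (60, 0), (63, 0), (66, 0), (69, 0), (72, 0), (75, 0), (78, 0), (81, 0), (84, 0), (87, 0), (90, 0), (93, 0), (96, 0), (99, 0), (102, 0), (105, 0), (108, 0), (111, 0), (114, 0)])
    (by decide +kernel) (by decide +kernel)

end Cfsg.Agent.Spor.ThC
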