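import Cfsg.Agent.Spor.Th.Close

set_option autoImplicit false
set_option Elab.async false
set_option maxRecDepth 100000

namespace Cfsg.Agent.Spor.ThC

open Cfsg.Agent.Comp.BN Cfsg.Agent.Comp.DCE

set_option linter.unusedVariables false

abbrev M : Type := gen N1.π
noncomputable abbrev x0 : ℕ → M := selfT N1.π
noncomputable abbrev ρ : M →* Equiv.Perm ℕ := (gen N1.π).subtype

theorem mod (hB : Bound PH 634023936) : Nat.card M = 634023936 ∧ PModel PH x0 N1.π bs ρ :=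
  model_self hB N1.sat N1.ch (by decide)

theorem tm (hB : Bound PH 634023936) : TM T ρ bs ∧ ∀ e < 9, lets T ρ e = x0 e :=
  tm_of_model (mod hB).2 (memo_spec N1.spec (K := 10) (by decide)) N1.inv (by decide +kernel) orig
    (goods (lt_of_invS (mod hB).2.map (mod hB).2.top N1.spec N1.out N1.inv)) (by decide)

theorem exists_hom (hB : Bound PH 634023936) {K : Type} [Group K] {y : ℕ → K} (hy : Sat PH y) :
    ∃ f : M →* K, ∀ k, f (x0 k) = y k :=
  ((mod hB).2.link hB (mod hB).1).hom K y hy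

noncomputable def ρ2 (hB : Bound PH 634023936) : M →* Equiv.Perm ℕ := (exists_hom hB N2.sat).choose

theorem hρ2 (hB : Bound PH 634023936) : ∀ k, ρ2 hB (x0 k) = N2.π k := (exists_hom hB N2.sat).choose_spec

theorem m2 (hB : Bound PH 634023936) : M2 (lets T ρ) x0 9 N2.act 17199 N2.π (ρ2 hB) :=
  ⟨⟨_, N2.spec⟩, fun g => lt_of_invS (hρ2 hB) (mod hB).2.top N2.spec N2.out N2.inv g 0 (by decide), hρ2 hB,
    (mod hB).2.top, (tm hB).2⟩

theorem m3 (hB : Bound PH 634023936) : M2 (lets T ρ) (subT x0 xws) 64 a3 17199 (subT N2.π xws) (ρ2 hB) :=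
  (m2 hB).virt (tm hB).1 (memo_spec (N2.spec.sub xws) (K := 15) (by decide)) (mod hB).2.sat.out (by decide +kernel) virt

theorem rel0 (hB : Bound PH 634023936) {G : Type} [Group G] {x : ℕ → G} (hx : Sat P x) {ι : M →* G}
    (hι : ∀ k, ι (x0 k) = subT x wsH k) :
    relG ι (x 9) (lets T ρ) [nat_lit 0, nat_lit 0xc] = 1 :=
  relG_of_rw (tm hB).1 hx (tm hB).2 hι [[], [2, 0]] [(2, 67, 0)] (by decide +kernel)

theorem rel1 (hB : Bound PH 634023936) {G : Type} [Group G] {x : ℕ → G} (hx : Sat P x) {ι : M →* G}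
    (hι : ∀ k, ι (x0 k) = subT x wsH k) :
    relG ι (x 9) (lets T ρ) [nat_lit 0x4, nat_lit 0x415, nat_lit 0x4, nat_lit 0x415] = 1 :=
  relG_of_rw (tm hB).1 hx (tm hB).2 hι [[3], [3, 4, 2, 0], [3], [3, 4, 2, 0]] [(4, 67, 0), (2, 102, 0), (7, 67, 0), (2, 102, 0), (3, 79, 0)] (by decide +kernel)

theorem rel2 (hB : Bound PH 634023936) {G : Type} [Group G] {x : ℕ → G} (hx : Sat P x) {ι : M →* G}
    (hι : ∀ k, ι (x0 k) = subT x wsH k) :
    relG ι (x 9) (lets T ρ) [nat_lit 0x1a37, nat_lit 0x43424, nat_lit 0x428, nat_lit 0x40c] = 1 :=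
  relG_of_rw (tm hB).1 hx (tm hB).2 hι [[3, 1, 2, 0, 1, 4, 2, 0], [3, 1, 0, 2, 1, 2, 4, 3, 2, 0], [3, 1, 2, 0, 1, 3], [3, 2, 0]] [(30, 67, 0), (2, 102, 0), (22, 67, 0), (2, 102, 0), (11, 67, 0), (2, 102, 0), (24, 85, 0)] (by decide +kernel)

theorem rel3 (hB : Bound PH 634023936) {G : Type} [Group G] {x : ℕ → G} (hx : Sat P x) {ι : M →* G}
    (hι : ∀ k, ι (x0 k) = subT x wsH k) :
    relG ι (x 9) (lets T ρ) [nat_lit 0x30, nat_lit 0x30, nat_lit 0x7] = 1 :=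
  relG_of_rw (tm hB).1 hx (tm hB).2 hι [[6, 2, 0], [6, 2, 0], [0, 2, 6, 2, 0]] [(13, 67, 0), (2, 102, 0), (10, 67, 0), (2, 102, 0), (8, 67, 0), (2, 102, 0), (5, 94, 0)] (by decide +kernel)

theorem rel4 (hB : Bound PH 634023936) {G : Type} [Group G] {x : ℕ → G} (hx : Sat P x) {ι : M →* G}
    (hι : ∀ k, ι (x0 k) = subT x wsH k) :
    relG ι (x 9) (lets T ρ) [nat_lit 0x6, nat_lit 0x30, nat_lit 0x6, nat_lit 0x30, nat_lit 0x6, nat_lit 0x30, nat_lit 0x6, nat_lit 0x7] = 1 :=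
  relG_of_rw (tm hB).1 hx (tm hB).2 hι [[5], [6, 2, 0], [5], [6, 2, 0], [5], [6, 2, 0], [5], [0, 2, 6, 2, 0]] [(23, 67, 0), (2, 102, 0), (20, 67, 0), (2, 102, 0), (18, 67, 0), (2, 102, 0), (16, 67, 0), (2, 102, 0), (15, 97, 0)] (by decide +kernel)

theorem rel5 (hB : Bound PH 634023936) {G : Type} [Group G] {x : ℕ → G} (hx : Sat P x) {ι : M →* G}
    (hι : ∀ k, ι (x0 k) = subT x wsH k) :
    relG ι (x 9) (lets T ρ) [nat_lit 0x33331, nat_lit 0x33331, nat_lit 0x33331, nat_lit 0x103b373d3b] = 1 :=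
  relG_of_rw (tm hB).1 hx (tm hB).2 hι [[5, 5, 3, 6, 6], [5, 5, 3, 6, 6], [5, 5, 3, 6, 6], [5, 5, 6, 6, 4, 3, 2, 3, 4, 5, 5, 5, 4, 3, 2, 3, 4, 6, 3, 2, 3, 2, 0, 3, 6, 6]] [(0, 102, 0), (19, 100, 0)] (by decide +kernel)

theorem hrel (hB : Bound PH 634023936) {G : Type} [Group G] {x : ℕ → G} (hx : Sat P x) {ι : M →* G}
    (hι : ∀ k, ι (x0 k) = subT x wsH k) :
    AllP (fun L => relG ι (x 9) (lets T ρ) L = 1) rels :=
  ⟨rel0 hB hx hι, rel1 hB hx hι, rel2 hB hx hι, rel3 hB hx hι, rel4 hB hx hι, rel5 hB hx hι, trivial⟩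

theorem kok_6 (hB : Bound PH 634023936) {G : Type} [Group G] {x : ℕ → G} (hx : Sat P x) {ι : M →* G}
    (hι : ∀ k, ι (x0 k) = subT x wsH k) :
    KOK ι (x 9) (lets T ρ) 64 92 6 :=
  KOK.word (tm hB).1 hx (tm hB).2 hι (KOK.word (tm hB).1 hx (tm hB).2 hι (KOK.word (tm hB).1 hx (tm hB).2 hι (KOK.word (tm hB).1 hx (tm hB).2 hι (KOK.word (tm hB).1 hx (tm hB).2 hι (KOK.word (tm hB).1 hx (tm hB).2 hι (kok_zero ι (x 9) _ 64 92) 1 1 [0] [0] [(1, 69, 0)] (by decide +kernel)) 3 3 [2] [2] [(1, 72, 0)] (by decide +kernel)) 5 5 [4] [4] [(1, 75, 0)] (by decide +kernel)) 5890 1597 [4, 1, 2, 0, 1] [1, 2, 0, 1] [(1, 81, 0)] (by decide +kernel)) 9 8 [8] [7] [(1, 87, 0)] (by decide +kernel)) 19338534 19338534 [5, 5, 4, 6, 6] [5, 5, 4, 6, 6] [(4, 90, 0)] (by decide +kernel)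

theorem A0sem (hB : Bound PH 634023936) {G : Type} [Group G] {x : ℕ → G} (hx : Sat P x) {ι : M →* G}
    (hι : ∀ k, ι (x0 k) = subT x wsH k) :
    Sem A0d (Rep2 ρ bs) (el2 (lets T ρ) 64 18446744073709551615) (Bi.z ι (x 9)) ⟨1⟩ :=
  sem2 (tm hB).1 (kok_6 hB hx hι) (rels := A0rels) ⟨rel0 hB hx hι, rel1 hB hx hι, rel2 hB hx hι, trivial⟩ (by decide +kernel) _ _ _ _

theorem kok_7 (hB : Bound PH 634023936) {G : Type} [Group G] {x : ℕ → G} (hx : Sat P x) {ι : M →* G}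
    (hι : ∀ k, ι (x0 k) = subT x wsH k) :
    KOK ι (x 9) (lets T ρ) 64 92 7 :=
  KOK.code (tm hB).1 (kok_6 hB hx hι) (kp_of_fact (A0sem hB hx hι) A0ok 10 506932501 1293023258667 (by decide +kernel)) (by decide +kernel)

theorem B0sem (hB : Bound PH 634023936) {G : Type} [Group G] {x : ℕ → G} (hx : Sat P x) {ι : M →* G}
    (hι : ∀ k, ι (x0 k) = subT x wsH k) :
    Sem B0d (Rep2 ρ bs) (el2 (lets T ρ) 64 18446744073709551615) (Bi.z ι (x 9)) ⟨1⟩ :=
  sem2 (tm hB).1 (kok_7 hB hx hι) (rels := B0rels) ⟨rel0 hB hx hι, rel1 hB hx hι, rel3 hB hx hι, rel4 hB hx hι, rel5 hB hx hι, trivial⟩ (by decide +kernel) _ _ _ _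

theorem kok (hB : Bound PH 634023936) {G : Type} [Group G] {x : ℕ → G} (hx : Sat P x) {ι : M →* G}
    (hι : ∀ k, ι (x0 k) = subT x wsH k) :
    KOK ι (x 9) (lets T ρ) 64 92 28 :=
  KOK.ders (tm hB).1 (KOK.code (tm hB).1 (kok_7 hB hx hι) (kp_of_fact (B0sem hB hx hι) B0ok 26 1129431276861994 265220 (by decide +kernel)) (by decide +kernel)) _ (nk' := 28) rfl kder0

theorem lev1 : LevelOK N1.π [] 0 T.N :=
  N1.ch_l0

/-- the nodes -/
noncomputable def nd {G : Type} [Group G] (x : ℕ → G) (ι : M →* G) : ℕ → Co ι :=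
  node d (elM (lets T ρ)) (MulAction.toPerm (x 9) : Equiv.Perm (Co ι)) (Co.one ι)

theorem sem (hB : Bound PH 634023936) {G : Type} [Group G] {x : ℕ → G} (hx : Sat P x) {ι : M →* G}
    (hι : ∀ k, ι (x0 k) = subT x wsH k) :
    Sem d (RepL ρ bs) (elM (lets T ρ)) (MulAction.toPerm (x 9) : Equiv.Perm (Co ι)) (Co.one ι) :=
  sem1 (tm hB).1 (kok hB hx hι) (hrel hB hx hι) _ _ _ _

theorem valid (hB : Bound PH 634023936) {G : Type} [Group G] {x : ℕ → G} (hx : Sat P x) {ι : M →* G}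
    (hι : ∀ k, ι (x0 k) = subT x wsH k) :
    ∀ r < 4274, Valid d (elM (lets T ρ)) (MulAction.toPerm (x 9) : Equiv.Perm (Co ι)) (nd x ι) (d.F r) :=
  ok _ _ _ _ _ _ (sem hB hx hι)

theorem lev2 : levelC a3 15 [] 0 [[0], [1], [2], [3], [4], [5], [6], [7], [8]] 5 17199 = true :=
  by decide +kernel

theorem hK (hB : Bound PH 634023936) {G : Type} [Group G] {x : ℕ → G} (hx : Sat P x) {ι : M →* G}
    (hι : ∀ k, ι (x0 k) = subT x wsH k) :
    ∀ k : M, ρ2 hB k 0 = 0 → ∃ t, KP ι (x 9) k t :=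
  have := (mod hB).2.fin
  fix_le_K (tm hB).1 (m3 hB) (kok hB hx hι) kfix chK lev2 ((mod hB).1.le.trans (by decide +kernel))

theorem lab0 (hB : Bound PH 634023936) {G : Type} [Group G] {x : ℕ → G} (hx : Sat P x) {ι : M →* G}
    (hι : ∀ k, ι (x0 k) = subT x wsH k) :
    Lab (ρ2 hB) ι (x 9) (nd x ι) 2047 0 (ones 17199) :=
  Lab.close (tm hB).1 (m3 hB) (valid hB hx hι)
    (Lab.roots (m3 hB) (valid hB hx hι) (dead_of (valid hB hx hι) _ dead) (lab_zero _ _) _ roots0) close0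

theorem stab0 (hB : Bound PH 634023936) {G : Type} [Group G] {x : ℕ → G} (hx : Sat P x) {ι : M →* G}
    (hι : ∀ k, ι (x0 k) = subT x wsH k) :
    Stab ρ (nd x ι 0) [] 634023936 :=
  stab_top (fun m => by rw [nd, node_zero]; exact Co.fix ι m) (mod hB).1

theorem lab1 (hB : Bound PH 634023936) {G : Type} [Group G] {x : ℕ → G} (hx : Sat P x) {ι : M →* G}
    (hι : ∀ k, ι (x0 k) = subT x wsH k) :
    Lab (ρ2 hB) ι (x 9) (nd x ι) 2047 1 (ones 17199) :=
  Lab.close (tm hB).1 (m3 hB) (valid hB hx hι)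
    (Lab.roots (m3 hB) (valid hB hx hι) (dead_of (valid hB hx hι) _ dead) (lab_zero _ _) _ roots1) close1

theorem stab1 (hB : Bound PH 634023936) {G : Type} [Group G] {x : ℕ → G} (hx : Sat P x) {ι : M →* G}
    (hι : ∀ k, ι (x0 k) = subT x wsH k) :
    Stab ρ (nd x ι 1) [] 36864 :=
  have := (mod hB).2.fin
  stab_of_chain (tm hB).1 (valid hB hx hι) ch1

theorem lab2 (hB : Bound PH 634023936) {G : Type} [Group G] {x : ℕ → G} (hx : Sat P x) {ι : M →* G}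
    (hι : ∀ k, ι (x0 k) = subT x wsH k) :
    Lab (ρ2 hB) ι (x 9) (nd x ι) 2047 2 (ones 17199) :=
  Lab.close (tm hB).1 (m3 hB) (valid hB hx hι)
    (Lab.roots (m3 hB) (valid hB hx hι) (dead_of (valid hB hx hι) _ dead) (lab_zero _ _) _ roots2) close2

theorem stab2 (hB : Bound PH 634023936) {G : Type} [Group G] {x : ℕ → G} (hx : Sat P x) {ι : M →* G}
    (hι : ∀ k, ι (x0 k) = subT x wsH k) :
    Stab ρ (nd x ι 2) [0] 13824 :=
  have := (mod hB).2.fin
  stab_of_chain (tm hB).1 (valid hB hx hι) ch2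

theorem lab3 (hB : Bound PH 634023936) {G : Type} [Group G] {x : ℕ → G} (hx : Sat P x) {ι : M →* G}
    (hι : ∀ k, ι (x0 k) = subT x wsH k) :
    Lab (ρ2 hB) ι (x 9) (nd x ι) 2047 3 (ones 17199) :=
  Lab.close (tm hB).1 (m3 hB) (valid hB hx hι)
    (Lab.roots (m3 hB) (valid hB hx hι) (dead_of (valid hB hx hι) _ dead) (lab_zero _ _) _ roots3) close3

theorem stab3 (hB : Bound PH 634023936) {G : Type} [Group G] {x : ℕ → G} (hx : Sat P x) {ι : M →* G}
    (hι : ∀ k, ι (x0 k) = subT x wsH k) :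
    Stab ρ (nd x ι 3) [] 288 :=
  have := (mod hB).2.fin
  stab_of_chain (tm hB).1 (valid hB hx hι) ch3

theorem lab4 (hB : Bound PH 634023936) {G : Type} [Group G] {x : ℕ → G} (hx : Sat P x) {ι : M →* G}
    (hι : ∀ k, ι (x0 k) = subT x wsH k) :
    Lab (ρ2 hB) ι (x 9) (nd x ι) 2047 4 (ones 17199) :=
  Lab.close (tm hB).1 (m3 hB) (valid hB hx hι)
    (Lab.roots (m3 hB) (valid hB hx hι) (dead_of (valid hB hx hι) _ dead) (lab_zero _ _) _ roots4) close4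

theorem stab4 (hB : Bound PH 634023936) {G : Type} [Group G] {x : ℕ → G} (hx : Sat P x) {ι : M →* G}
    (hι : ∀ k, ι (x0 k) = subT x wsH k) :
    Stab ρ (nd x ι 4) [] 486 :=
  have := (mod hB).2.fin
  stab_of_chain (tm hB).1 (valid hB hx hι) ch4

theorem lab5 (hB : Bound PH 634023936) {G : Type} [Group G] {x : ℕ → G} (hx : Sat P x) {ι : M →* G}
    (hι : ∀ k, ι (x0 k) = subT x wsH k) :
    Lab (ρ2 hB) ι (x 9) (nd x ι) 2047 5 (ones 17199) :=
  Lab.close (tm hB).1 (m3 hB) (valid hB hx hι)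
    (Lab.roots (m3 hB) (valid hB hx hι) (dead_of (valid hB hx hι) _ dead) (lab_zero _ _) _ roots5) close5

theorem stab5 (hB : Bound PH 634023936) {G : Type} [Group G] {x : ℕ → G} (hx : Sat P x) {ι : M →* G}
    (hι : ∀ k, ι (x0 k) = subT x wsH k) :
    Stab ρ (nd x ι 5) [] 126 :=
  have := (mod hB).2.fin
  stab_of_chain (tm hB).1 (valid hB hx hι) ch5

theorem lab6 (hB : Bound PH 634023936) {G : Type} [Group G] {x : ℕ → G} (hx : Sat P x) {ι : M →* G}
    (hι : ∀ k, ι (x0 k) = subT x wsH k) :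
    Lab (ρ2 hB) ι (x 9) (nd x ι) 2047 6 (ones 17199) :=
  Lab.close (tm hB).1 (m3 hB) (valid hB hx hι)
    (Lab.roots (m3 hB) (valid hB hx hι) (dead_of (valid hB hx hι) _ dead) (lab_zero _ _) _ roots6) close6

theorem stab6 (hB : Bound PH 634023936) {G : Type} [Group G] {x : ℕ → G} (hx : Sat P x) {ι : M →* G}
    (hι : ∀ k, ι (x0 k) = subT x wsH k) :
    Stab ρ (nd x ι 6) [] 6 :=
  have := (mod hB).2.fin
  stab_of_chain (tm hB).1 (valid hB hx hι) ch6

theorem lab7 (hB : Bound PH 634023936) {G : Type} [Group G] {x : ℕ → G} (hx : Sat P x) {ι : M →* G}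
    (hι : ∀ k, ι (x0 k) = subT x wsH k) :
    Lab (ρ2 hB) ι (x 9) (nd x ι) 2047 7 (ones 17199) :=
  Lab.close (tm hB).1 (m3 hB) (valid hB hx hι)
    (Lab.roots (m3 hB) (valid hB hx hι) (dead_of (valid hB hx hι) _ dead) (lab_zero _ _) _ roots7) close7

theorem stab7 (hB : Bound PH 634023936) {G : Type} [Group G] {x : ℕ → G} (hx : Sat P x) {ι : M →* G}
    (hι : ∀ k, ι (x0 k) = subT x wsH k) :
    Stab ρ (nd x ι 7) [] 54 :=
  have := (mod hB).2.fin
  stab_of_chain (tm hB).1 (valid hB hx hι) ch7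

theorem lab8 (hB : Bound PH 634023936) {G : Type} [Group G] {x : ℕ → G} (hx : Sat P x) {ι : M →* G}
    (hι : ∀ k, ι (x0 k) = subT x wsH k) :
    Lab (ρ2 hB) ι (x 9) (nd x ι) 2047 8 (ones 17199) :=
  Lab.close (tm hB).1 (m3 hB) (valid hB hx hι)
    (Lab.roots (m3 hB) (valid hB hx hι) (dead_of (valid hB hx hι) _ dead) (lab_zero _ _) _ roots8) close8

theorem stab8 (hB : Bound PH 634023936) {G : Type} [Group G] {x : ℕ → G} (hx : Sat P x) {ι : M →* G}
    (hι : ∀ k, ι (x0 k) = subT x wsH k) :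
    Stab ρ (nd x ι 8) [] 3528 :=
  have := (mod hB).2.fin
  stab_of_chain (tm hB).1 (valid hB hx hι) ch8

theorem lab9 (hB : Bound PH 634023936) {G : Type} [Group G] {x : ℕ → G} (hx : Sat P x) {ι : M →* G}
    (hι : ∀ k, ι (x0 k) = subT x wsH k) :
    Lab (ρ2 hB) ι (x 9) (nd x ι) 2047 9 (ones 17199) :=
  Lab.close (tm hB).1 (m3 hB) (valid hB hx hι)
    (Lab.roots (m3 hB) (valid hB hx hι) (dead_of (valid hB hx hι) _ dead) (lab_zero _ _) _ roots9) close9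

theorem stab9 (hB : Bound PH 634023936) {G : Type} [Group G] {x : ℕ → G} (hx : Sat P x) {ι : M →* G}
    (hι : ∀ k, ι (x0 k) = subT x wsH k) :
    Stab ρ (nd x ι 9) [] 72 :=
  have := (mod hB).2.fin
  stab_of_chain (tm hB).1 (valid hB hx hι) ch9

theorem lab10 (hB : Bound PH 634023936) {G : Type} [Group G] {x : ℕ → G} (hx : Sat P x) {ι : M →* G}
    (hι : ∀ k, ι (x0 k) = subT x wsH k) :
    Lab (ρ2 hB) ι (x 9) (nd x ι) 2047 10 (ones 17199) :=
  Lab.close (tm hB).1 (m3 hB) (valid hB hx hι)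
    (Lab.roots (m3 hB) (valid hB hx hι) (dead_of (valid hB hx hι) _ dead) (lab_zero _ _) _ roots10) close10

theorem stab10 (hB : Bound PH 634023936) {G : Type} [Group G] {x : ℕ → G} (hx : Sat P x) {ι : M →* G}
    (hι : ∀ k, ι (x0 k) = subT x wsH k) :
    Stab ρ (nd x ι 10) [] 78 :=
  have := (mod hB).2.fin
  stab_of_chain (tm hB).1 (valid hB hx hι) ch10

/-- the nodes representing the orbits -/
def reps : List ℕ := [0, 1, 2, 3, 4, 5, 6, 7, 8, 9, 10]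

/-- the sizes of the orbits -/
def ns : List ℕ := [1, 17199, 45864, 2201472, 1304576, 5031936, 105670656, 11741184, 179712, 8805888, 8128512]

theorem cover (hB : Bound PH 634023936) {G : Type} [Group G] {x : ℕ → G} (hx : Sat P x) {ι : M →* G}
    (hι : ∀ k, ι (x0 k) = subT x wsH k) (top : gen x = ⊤) :
    Cover ι.range (fun i => nd x ι (nth 1 reps i)) ns :=
  have := (mod hB).2.fin
  cover_of (m3 hB) (hK hB hx hι) (sup_eq_top hx top (mod hB).2.top hι [[0], [1], [2], [3], [4], [5], [6], [7], [8], [9], [10]] [(102, 0), (102, 0), (102, 0), (102, 0), (102, 0), (102, 0), (102, 0), (102, 0), (102, 0), (102, 0), (102, 0)] (by decide +kernel))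
    (node_zero _ _ _ _) [(0, 1, 634023936, []), (1, 17199, 36864, []), (2, 45864, 13824, [0]), (3, 2201472, 288, []), (4, 1304576, 486, []), (5, 5031936, 126, []), (6, 105670656, 6, []), (7, 11741184, 54, []), (8, 179712, 3528, []), (9, 8805888, 72, []), (10, 8128512, 78, [])] (by decide +kernel) rfl
    ⟨⟨lab0 hB hx hι, stab0 hB hx hι⟩, ⟨lab1 hB hx hι, stab1 hB hx hι⟩, ⟨lab2 hB hx hι, stab2 hB hx hι⟩, ⟨lab3 hB hx hι, stab3 hB hx hι⟩, ⟨lab4 hB hx hι, stab4 hB hx hι⟩, ⟨lab5 hB hx hι, stab5 hB hx hι⟩, ⟨lab6 hB hx hι, stab6 hB hx hι⟩, ⟨lab7 hB hx hι, stab7 hB hx hι⟩, ⟨lab8 hB hx hι, stab8 hB hx hι⟩, ⟨lab9 hB hx hι, stab9 hB hx hι⟩, ⟨lab10 hB hx hι, stab10 hB hx hι⟩, trivial⟩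
    ⟨⟨by decide, (mod hB).1.le.trans (by decide)⟩, ⟨by decide, (mod hB).1.le.trans (by decide)⟩, ⟨by decide, (mod hB).1.le.trans (by decide)⟩, ⟨by decide, (mod hB).1.le.trans (by decide)⟩, ⟨by decide, (mod hB).1.le.trans (by decide)⟩, ⟨by decide, (mod hB).1.le.trans (by decide)⟩, ⟨by decide, (mod hB).1.le.trans (by decide)⟩, ⟨by decide, (mod hB).1.le.trans (by decide)⟩, ⟨by decide, (mod hB).1.le.trans (by decide)⟩, ⟨by decide, (mod hB).1.le.trans (by decide)⟩, ⟨by decide, (mod hB).1.le.trans (by decide)⟩, trivial⟩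

theorem bound (hB : Bound PH 634023936) (hI : Impl P PH wsH) : Bound P 90745943887872000 := fun _ _ x hx => by
  obtain ⟨ι, hι⟩ := exists_hom hB (hI _ _ (sat_selfT hx))
  have := (mod hB).2.fin
  obtain ⟨h1, h2⟩ := card_range_le ι
  exact (cover hB (sat_selfT hx) hι (gen_selfT x)).bound (h2.trans (mod hB).1.le)

theorem coatom (hB : Bound PH 634023936) {G : Type} [Group G] {x : ℕ → G} (hx : Sat P x) {ι : M →* G}
    (hι : ∀ k, ι (x0 k) = subT x wsH k) (top : gen x = ⊤) (h : ι.range.index = 143127000) : IsCoatom ι.range :=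
  (cover hB hx hι top).isCoatom h (by decide) (nb := 32) (by decide +kernel)

theorem core (hB : Bound PH 634023936) {G : Type} [Group G] {x : ℕ → G} (hx : Sat P x) {ι : M →* G}
    (hι : ∀ k, ι (x0 k) = subT x wsH k) (top : gen x = ⊤) (h : ι.range.index = 143127000) : ι.range.normalCore = ⊥ :=
  have := (mod hB).2.fin
  core_eq_bot (stab2 hB hx hι) ((cover hB hx hι top).exact h (i := 2) (by decide)) ((mod hB).1.le.trans (by decide))
    (base_of_level (mod hB).2.map (tm hB).1.supp (by decide) lev1 (tm hB).1.bl (mod hB).2.base)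

end Cfsg.Agent.Spor.ThC
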